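import Cfsg.Agent.Lib.Helper35.Simple2

namespace Cfsg.Agent.Lib.Helper35.Fi23Ord.U4

open Cfsg.Agent.Lib.Helper35

set_option maxRecDepth 100000
noncomputable section
def invL : List Nat := [0, 1, 2, 3, 4, 5]
def R : List (List Nat) := [[0, 1, 0, 1, 0, 1],
  [0, 2, 0, 2],
  [0, 3, 0, 3],
  [0, 4, 0, 4],
  [0, 5, 0, 5],
  [1, 2, 1, 2, 1, 2],
  [1, 3, 1, 3],
  [1, 4, 1, 4, 1, 4],
  [1, 5, 1, 5],
  [2, 3, 2, 3, 2, 3],
  [2, 4, 2, 4],
  [2, 5, 2, 5],
  [3, 4, 3, 4],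
  [3, 5, 3, 5],
  [4, 5, 4, 5, 4, 5]]
def S : List (List Nat) := [[0],
  [1],
  [2],
  [3],
  [4]]
noncomputable def tA0 : Nat := 0xedeeb32975c1d52c52a98d2633087c3a1aec75a2192aa3321c8825419884200
noncomputable def tJ0 : Nat := 0x200c0c02000040000008140202008080602020100c00018000005010040e00
noncomputable def tA1 : Nat := 0xedee8b039bbdd8e7544a942623287c3a1aec3522c8ec814a994a43121884200
noncomputable def tJ1 : Nat := 0x200c00020280402060000002020081406050200000040100c0c00010040e00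
noncomputable def tA2 : Nat := 0xed9647598bbddaab5448cc9666e87a4096ec16ba992c8229104e26419884200
noncomputable def tJ2 : Nat := 0x20000602010040207008140002008000002018100a04000000603010040c00
noncomputable def tA3 : Nat := 0x2d0ef7398bbddaab5499cc91f10589b1da8e2491c5646150a18aa4419884200
noncomputable def tJ3 : Nat := 0xc0802010040205008100202000080e000000006000180c0a04010040c00
noncomputable def tA4 : Nat := 0xedeeb32562a8e06f54a9cca624d8792c6049173a858c863a994a842108c4200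
noncomputable def tJ4 : Nat := 0x200c0401008000006028080a010280400010001000040180c0c02008000e00
noncomputable def tA5 : Nat := 0xedeeb3378ab950a436280d49c33260c65a2f85ba9d2c863a994a84319044400
noncomputable def tJ5 : Nat := 0x18080a040200402000080002000080004000180c0a03010080c05020040000
noncomputable def tA6 : Nat := 0x0
noncomputable def tJ6 : Nat := 0x0
noncomputable def tP : Nat := 0xd3cac1b4aca595908581756c655c5a4c4b3b39332a222019140d0000
def par : Par := ⟨9, 5, 511, 31, 543, 512⟩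
def tabs : Nat → Nat
  | 0 => tA0
  | 1 => tA1
  | 2 => tA2
  | 3 => tA3
  | 4 => tA4
  | 5 => tA5
  | 6 => tA6
  | _ => 0
def pe (u : Nat) : Nat := Nat.land (Nat.shiftRight tP (Nat.mul u 8)) 255
def je0 (v : Nat) : Nat := Nat.land (Nat.shiftRight tJ0 (Nat.mul v 9)) 511
def stp0 (off v : Nat) : Nat := Nat.land (Nat.add (Nat.land (Nat.shiftRight tA0 (Nat.mul v 9)) 511) off) 543
theorem stp0_eq : ∀ off v, stp0 off v = step par (tabs 0) off v := fun _ _ => rfl
attribute [irreducible] stp0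
def je1 (v : Nat) : Nat := Nat.land (Nat.shiftRight tJ1 (Nat.mul v 9)) 511
def stp1 (off v : Nat) : Nat := Nat.land (Nat.add (Nat.land (Nat.shiftRight tA1 (Nat.mul v 9)) 511) off) 543
theorem stp1_eq : ∀ off v, stp1 off v = step par (tabs 1) off v := fun _ _ => rfl
attribute [irreducible] stp1
def je2 (v : Nat) : Nat := Nat.land (Nat.shiftRight tJ2 (Nat.mul v 9)) 511
def stp2 (off v : Nat) : Nat := Nat.land (Nat.add (Nat.land (Nat.shiftRight tA2 (Nat.mul v 9)) 511) off) 543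
theorem stp2_eq : ∀ off v, stp2 off v = step par (tabs 2) off v := fun _ _ => rfl
attribute [irreducible] stp2
def je3 (v : Nat) : Nat := Nat.land (Nat.shiftRight tJ3 (Nat.mul v 9)) 511
def stp3 (off v : Nat) : Nat := Nat.land (Nat.add (Nat.land (Nat.shiftRight tA3 (Nat.mul v 9)) 511) off) 543
theorem stp3_eq : ∀ off v, stp3 off v = step par (tabs 3) off v := fun _ _ => rfl
attribute [irreducible] stp3
def je4 (v : Nat) : Nat := Nat.land (Nat.shiftRight tJ4 (Nat.mul v 9)) 511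
def stp4 (off v : Nat) : Nat := Nat.land (Nat.add (Nat.land (Nat.shiftRight tA4 (Nat.mul v 9)) 511) off) 543
theorem stp4_eq : ∀ off v, stp4 off v = step par (tabs 4) off v := fun _ _ => rfl
attribute [irreducible] stp4
def je5 (v : Nat) : Nat := Nat.land (Nat.shiftRight tJ5 (Nat.mul v 9)) 511
def stp5 (off v : Nat) : Nat := Nat.land (Nat.add (Nat.land (Nat.shiftRight tA5 (Nat.mul v 9)) 511) off) 543
theorem stp5_eq : ∀ off v, stp5 off v = step par (tabs 5) off v := fun _ _ => rfl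
attribute [irreducible] stp5
def je6 (v : Nat) : Nat := Nat.land (Nat.shiftRight tJ6 (Nat.mul v 9)) 511
def stp6 (off v : Nat) : Nat := Nat.land (Nat.add (Nat.land (Nat.shiftRight tA6 (Nat.mul v 9)) 511) off) 543
theorem stp6_eq : ∀ off v, stp6 off v = step par (tabs 6) off v := fun _ _ => rfl
attribute [irreducible] stp6
def je : Nat → Nat → Nat
  | 0 => je0
  | 1 => je1
  | 2 => je2
  | 3 => je3
  | 4 => je4
  | 5 => je5
  | 6 => je6
  | _ => fun _ => 0
def st : Nat → Nat → Nat → Nat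
  | 0 => stp0
  | 1 => stp1
  | 2 => stp2
  | 3 => stp3
  | 4 => stp4
  | 5 => stp5
  | 6 => stp6
  | _ => fun off v => step par 0 off v
theorem hst : ∀ l off v, st l off v = step par (tabs l) off v := by
  intro l off v
  rcases Nat.lt_or_ge l 7 with h | h
  · interval_cases l
    exacts [stp0_eq off v, stp1_eq off v, stp2_eq off v, stp3_eq off v, stp4_eq off v, stp5_eq off v, stp6_eq off v]
  · obtain ⟨k, rfl⟩ : ∃ k, l = k + 7 := ⟨l - 7, by omega⟩
    rfl
def lf0_0 : Leaf (walkS st) := ⟨[0], [], 0, 0, (fun off v => (stp0 off v)), (fun _ v => v), (fun _ u _ => u), fun _ _ => rfl, fun _ _ => rfl⟩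
def lf0_1 : Leaf (walkS st) := ⟨[], [5, 0, 5], 10, 2, (fun _ v => v), (fun off v => (stp5 off (stp0 off (stp5 off v)))), (fun v _ _ => v), fun _ _ => rfl, fun _ _ => rfl⟩
def lf0_2 : Leaf (walkS st) := ⟨[], [4, 0, 4], 9, 2, (fun _ v => v), (fun off v => (stp4 off (stp0 off (stp4 off v)))), (fun v _ _ => v), fun _ _ => rfl, fun _ _ => rfl⟩
def lf0_3 : Leaf (walkS st) := ⟨[], [2, 0, 2], 7, 2, (fun _ v => v), (fun off v => (stp2 off (stp0 off (stp2 off v)))), (fun v _ _ => v), fun _ _ => rfl, fun _ _ => rfl⟩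
def lf0_4 : Leaf (walkS st) := ⟨[], [3, 0, 3], 8, 2, (fun _ v => v), (fun off v => (stp3 off (stp0 off (stp3 off v)))), (fun v _ _ => v), fun _ _ => rfl, fun _ _ => rfl⟩
def lf0_6 : Leaf (walkS st) := ⟨[], [1, 0, 1, 0, 1], 6, 2, (fun _ v => v), (fun off v => (stp1 off (stp0 off (stp1 off (stp0 off (stp1 off v)))))), (fun v _ _ => v), fun _ _ => rfl, fun _ _ => rfl⟩
def lf0_7 : Leaf (walkS st) := ⟨[], [], 0, 0, (fun _ v => v), (fun _ v => v), (fun _ _ _ => 1), fun _ _ => rfl, fun _ _ => rfl⟩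
def tree0 : RTree (walkS st) :=
  (.node 2 (.node 1 (.fork lf0_0) (.fork lf0_1)) (.node 4 (.node 3 (.fork lf0_2) (.fork lf0_3)) (.node 5 (.fork lf0_4) (.node 6 .tleaf (.node 7 (.fork lf0_6) (.sub lf0_7))))))
def lf1_0 : Leaf (walkS st) := ⟨[1], [], 1, 0, (fun off v => (stp1 off v)), (fun _ v => v), (fun _ u _ => u), fun _ _ => rfl, fun _ _ => rfl⟩
def lf1_1 : Leaf (walkS st) := ⟨[], [5, 1, 5], 14, 2, (fun _ v => v), (fun off v => (stp5 off (stp1 off (stp5 off v)))), (fun v _ _ => v), fun _ _ => rfl, fun _ _ => rfl⟩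
def lf1_3 : Leaf (walkS st) := ⟨[], [2, 1, 2, 1, 2], 11, 2, (fun _ v => v), (fun off v => (stp2 off (stp1 off (stp2 off (stp1 off (stp2 off v)))))), (fun v _ _ => v), fun _ _ => rfl, fun _ _ => rfl⟩
def lf1_4 : Leaf (walkS st) := ⟨[], [3, 1, 3], 12, 2, (fun _ v => v), (fun off v => (stp3 off (stp1 off (stp3 off v)))), (fun v _ _ => v), fun _ _ => rfl, fun _ _ => rfl⟩
def lf1_5 : Leaf (walkS st) := ⟨[], [4, 1, 4, 1, 4], 13, 2, (fun _ v => v), (fun off v => (stp4 off (stp1 off (stp4 off (stp1 off (stp4 off v)))))), (fun v _ _ => v), fun _ _ => rfl, fun _ _ => rfl⟩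
def lf1_6 : Leaf (walkS st) := ⟨[], [0, 1, 0, 1, 0], 6, 1, (fun _ v => v), (fun off v => (stp0 off (stp1 off (stp0 off (stp1 off (stp0 off v)))))), (fun v _ _ => v), fun _ _ => rfl, fun _ _ => rfl⟩
def lf1_7 : Leaf (walkS st) := ⟨[], [], 1, 0, (fun _ v => v), (fun _ v => v), (fun _ _ _ => 1), fun _ _ => rfl, fun _ _ => rfl⟩
def tree1 : RTree (walkS st) :=
  (.node 3 (.node 1 (.fork lf1_0) (.node 2 (.fork lf1_1) .tleaf)) (.node 5 (.node 4 (.fork lf1_3) (.fork lf1_4)) (.node 6 (.fork lf1_5) (.node 7 (.fork lf1_6) (.sub lf1_7)))))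
def lf2_0 : Leaf (walkS st) := ⟨[2], [], 2, 0, (fun off v => (stp2 off v)), (fun _ v => v), (fun _ u _ => u), fun _ _ => rfl, fun _ _ => rfl⟩
def lf2_1 : Leaf (walkS st) := ⟨[], [5, 2, 5], 17, 2, (fun _ v => v), (fun off v => (stp5 off (stp2 off (stp5 off v)))), (fun v _ _ => v), fun _ _ => rfl, fun _ _ => rfl⟩
def lf2_2 : Leaf (walkS st) := ⟨[], [4, 2, 4], 16, 2, (fun _ v => v), (fun off v => (stp4 off (stp2 off (stp4 off v)))), (fun v _ _ => v), fun _ _ => rfl, fun _ _ => rfl⟩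
def lf2_4 : Leaf (walkS st) := ⟨[], [3, 2, 3, 2, 3], 15, 2, (fun _ v => v), (fun off v => (stp3 off (stp2 off (stp3 off (stp2 off (stp3 off v)))))), (fun v _ _ => v), fun _ _ => rfl, fun _ _ => rfl⟩
def lf2_5 : Leaf (walkS st) := ⟨[], [1, 2, 1, 2, 1], 11, 1, (fun _ v => v), (fun off v => (stp1 off (stp2 off (stp1 off (stp2 off (stp1 off v)))))), (fun v _ _ => v), fun _ _ => rfl, fun _ _ => rfl⟩
def lf2_6 : Leaf (walkS st) := ⟨[], [], 2, 0, (fun _ v => v), (fun _ v => v), (fun _ _ _ => 1), fun _ _ => rfl, fun _ _ => rfl⟩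
def lf2_7 : Leaf (walkS st) := ⟨[], [0, 2, 0], 7, 1, (fun _ v => v), (fun off v => (stp0 off (stp2 off (stp0 off v)))), (fun v _ _ => v), fun _ _ => rfl, fun _ _ => rfl⟩
def tree2 : RTree (walkS st) :=
  (.node 2 (.node 1 (.fork lf2_0) (.fork lf2_1)) (.node 4 (.node 3 (.fork lf2_2) .tleaf) (.node 5 (.fork lf2_4) (.node 6 (.fork lf2_5) (.node 7 (.sub lf2_6) (.fork lf2_7))))))
def lf3_0 : Leaf (walkS st) := ⟨[3], [], 3, 0, (fun off v => (stp3 off v)), (fun _ v => v), (fun _ u _ => u), fun _ _ => rfl, fun _ _ => rfl⟩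
def lf3_1 : Leaf (walkS st) := ⟨[], [5, 3, 5], 19, 2, (fun _ v => v), (fun off v => (stp5 off (stp3 off (stp5 off v)))), (fun v _ _ => v), fun _ _ => rfl, fun _ _ => rfl⟩
def lf3_2 : Leaf (walkS st) := ⟨[], [4, 3, 4], 18, 2, (fun _ v => v), (fun off v => (stp4 off (stp3 off (stp4 off v)))), (fun v _ _ => v), fun _ _ => rfl, fun _ _ => rfl⟩
def lf3_4 : Leaf (walkS st) := ⟨[], [1, 3, 1], 12, 1, (fun _ v => v), (fun off v => (stp1 off (stp3 off (stp1 off v)))), (fun v _ _ => v), fun _ _ => rfl, fun _ _ => rfl⟩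
def lf3_5 : Leaf (walkS st) := ⟨[], [0, 3, 0], 8, 1, (fun _ v => v), (fun off v => (stp0 off (stp3 off (stp0 off v)))), (fun v _ _ => v), fun _ _ => rfl, fun _ _ => rfl⟩
def lf3_6 : Leaf (walkS st) := ⟨[], [], 3, 0, (fun _ v => v), (fun _ v => v), (fun _ _ _ => 1), fun _ _ => rfl, fun _ _ => rfl⟩
def lf3_7 : Leaf (walkS st) := ⟨[], [2, 3, 2, 3, 2], 15, 1, (fun _ v => v), (fun off v => (stp2 off (stp3 off (stp2 off (stp3 off (stp2 off v)))))), (fun v _ _ => v), fun _ _ => rfl, fun _ _ => rfl⟩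
def tree3 : RTree (walkS st) :=
  (.node 2 (.node 1 (.fork lf3_0) (.fork lf3_1)) (.node 4 (.node 3 (.fork lf3_2) .tleaf) (.node 5 (.fork lf3_4) (.node 6 (.fork lf3_5) (.node 7 (.sub lf3_6) (.fork lf3_7))))))
def lf4_1 : Leaf (walkS st) := ⟨[4], [], 4, 0, (fun off v => (stp4 off v)), (fun _ v => v), (fun _ u _ => u), fun _ _ => rfl, fun _ _ => rfl⟩
def lf4_2 : Leaf (walkS st) := ⟨[], [1, 4, 1, 4, 1], 13, 1, (fun _ v => v), (fun off v => (stp1 off (stp4 off (stp1 off (stp4 off (stp1 off v)))))), (fun v _ _ => v), fun _ _ => rfl, fun _ _ => rfl⟩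
def lf4_3 : Leaf (walkS st) := ⟨[], [2, 4, 2], 16, 1, (fun _ v => v), (fun off v => (stp2 off (stp4 off (stp2 off v)))), (fun v _ _ => v), fun _ _ => rfl, fun _ _ => rfl⟩
def lf4_4 : Leaf (walkS st) := ⟨[], [3, 4, 3], 18, 1, (fun _ v => v), (fun off v => (stp3 off (stp4 off (stp3 off v)))), (fun v _ _ => v), fun _ _ => rfl, fun _ _ => rfl⟩
def lf4_5 : Leaf (walkS st) := ⟨[], [5, 4, 5, 4, 5], 20, 2, (fun _ v => v), (fun off v => (stp5 off (stp4 off (stp5 off (stp4 off (stp5 off v)))))), (fun v _ _ => v), fun _ _ => rfl, fun _ _ => rfl⟩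
def lf4_6 : Leaf (walkS st) := ⟨[], [0, 4, 0], 9, 1, (fun _ v => v), (fun off v => (stp0 off (stp4 off (stp0 off v)))), (fun v _ _ => v), fun _ _ => rfl, fun _ _ => rfl⟩
def lf4_7 : Leaf (walkS st) := ⟨[], [], 4, 0, (fun _ v => v), (fun _ v => v), (fun _ _ _ => 1), fun _ _ => rfl, fun _ _ => rfl⟩
def tree4 : RTree (walkS st) :=
  (.node 2 (.node 1 .tleaf (.fork lf4_1)) (.node 4 (.node 3 (.fork lf4_2) (.fork lf4_3)) (.node 5 (.fork lf4_4) (.node 6 (.fork lf4_5) (.node 7 (.fork lf4_6) (.sub lf4_7))))))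
def lf5_1 : Leaf (walkS st) := ⟨[5], [], 5, 0, (fun off v => (stp5 off v)), (fun _ v => v), (fun _ u _ => u), fun _ _ => rfl, fun _ _ => rfl⟩
def lf5_2 : Leaf (walkS st) := ⟨[], [2, 5, 2], 17, 1, (fun _ v => v), (fun off v => (stp2 off (stp5 off (stp2 off v)))), (fun v _ _ => v), fun _ _ => rfl, fun _ _ => rfl⟩
def lf5_3 : Leaf (walkS st) := ⟨[], [3, 5, 3], 19, 1, (fun _ v => v), (fun off v => (stp3 off (stp5 off (stp3 off v)))), (fun v _ _ => v), fun _ _ => rfl, fun _ _ => rfl⟩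
def lf5_4 : Leaf (walkS st) := ⟨[], [4, 5, 4, 5, 4], 20, 1, (fun _ v => v), (fun off v => (stp4 off (stp5 off (stp4 off (stp5 off (stp4 off v)))))), (fun v _ _ => v), fun _ _ => rfl, fun _ _ => rfl⟩
def lf5_5 : Leaf (walkS st) := ⟨[], [1, 5, 1], 14, 1, (fun _ v => v), (fun off v => (stp1 off (stp5 off (stp1 off v)))), (fun v _ _ => v), fun _ _ => rfl, fun _ _ => rfl⟩
def lf5_6 : Leaf (walkS st) := ⟨[], [0, 5, 0], 10, 1, (fun _ v => v), (fun off v => (stp0 off (stp5 off (stp0 off v)))), (fun v _ _ => v), fun _ _ => rfl, fun _ _ => rfl⟩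
def tree5 : RTree (walkS st) :=
  (.node 2 (.node 1 .tleaf (.fork lf5_1)) (.node 4 (.node 3 (.fork lf5_2) (.fork lf5_3)) (.node 5 (.fork lf5_4) (.node 6 (.fork lf5_5) (.fork lf5_6)))))
def tree6 : RTree (walkS st) :=
  .tleaf
def trees : Nat → RTree (walkS st)
  | 0 => tree0
  | 1 => tree1
  | 2 => tree2
  | 3 => tree3
  | 4 => tree4
  | 5 => tree5
  | 6 => tree6
  | _ => .tleaf
noncomputable def fs0 (v : Nat) : Bool := chkSlot par tA0 je0 pe 4 15 8 (deadF par tA6) (fun _ => 27) tree0 0 v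
noncomputable def fs1 (v : Nat) : Bool := chkSlot par tA1 je1 pe 4 15 8 (deadF par tA6) (fun _ => 27) tree1 1 v
noncomputable def fs2 (v : Nat) : Bool := chkSlot par tA2 je2 pe 4 15 8 (deadF par tA6) (fun _ => 27) tree2 2 v
noncomputable def fs3 (v : Nat) : Bool := chkSlot par tA3 je3 pe 4 15 8 (deadF par tA6) (fun _ => 27) tree3 3 v
noncomputable def fs4 (v : Nat) : Bool := chkSlot par tA4 je4 pe 4 15 8 (deadF par tA6) (fun _ => 27) tree4 4 v
noncomputable def fs5 (v : Nat) : Bool := chkSlot par tA5 je5 pe 4 15 8 (deadF par tA6) (fun _ => 27) tree5 5 v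
noncomputable def fs6 (v : Nat) : Bool := chkSlot par tA6 je6 pe 4 15 8 (fun _ => true) (fun v => Nat.pred v) tree6 6 v
def gl (k : Nat) : Bool := liveF par tA6 (Nat.succ k)

end

end Cfsg.Agent.Lib.Helper35.Fi23Ord.U4
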